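/- Orthogonal decompositions in triangulated categories. -/
import Mathlib.CategoryTheory.Triangulated.Orthogonal
import Mathlib.CategoryTheory.Triangulated.Subcategory
import Mathlib.CategoryTheory.Adjunction.Basic

set_option autoImplicit false

open CategoryTheory CategoryTheory.Limits CategoryTheory.Pretriangulated ObjectProperty

universe v u

namespace Groth.Agent.TriOrth.Decomposition

variable {D : Type u} [Category.{v} D] [Preadditive D] [HasZeroObject D] [HasShift D ℤ]
  [∀ n : ℤ, (shiftFunctor D n).Additive] [Pretriangulated D]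

lemma extensionProduct_comm_le (L R : ObjectProperty D) [R.IsStableUnderShift ℤ]
    (h : ∀ ⦃A B : D⦄ (f : A ⟶ B), L A → R B → f = 0) :
    extensionProduct R L ≤ extensionProduct L R := by
  rintro X ⟨B, A, f, g, k, hT, hB, hA⟩
  obtain ⟨e, -, -⟩ := exists_iso_binaryBiproduct_of_distTriang _ hT (h k hA (R.le_shift 1 _ hB))
  change X ≅ B ⊞ A at e
  exact (extensionProduct L R).prop_of_iso (biprod.braiding A B ≪≫ e.symm)
    ⟨A, B, _, _, _, binaryBiproductTriangle_distinguished A B, hA, hB⟩

theorem isTriangulated [IsTriangulated D] (L R : ObjectProperty D) [L.IsTriangulated]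
    [R.IsTriangulated] (h : ∀ ⦃A B : D⦄ (f : A ⟶ B), L A → R B → f = 0) :
    (extensionProduct L R).IsTriangulated := by
  haveI : (extensionProduct L R).ContainsZero := by
    obtain ⟨Z, hZ, hLZ⟩ := L.exists_prop_of_containsZero
    exact ⟨Z, hZ, le_extensionProduct_left R _ hLZ⟩
  haveI : (extensionProduct L R).IsTriangulatedClosed₂ := .mk' fun T hT h₁ h₃ => by
    have hle : extensionProduct (extensionProduct L R) (extensionProduct L R) ≤
        extensionProduct L R := by
      rw [extensionProduct_assoc, ← extensionProduct_assoc R L R]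
      refine (monotone_extensionProduct_right L (monotone_extensionProduct_left R
        (extensionProduct_comm_le L R h))).trans ?_
      rw [extensionProduct_assoc L R R, ← extensionProduct_assoc L L (extensionProduct R R)]
      refine le_trans ?_ (extensionProduct_isoClosure_left L R).le
      refine le_trans ?_ (extensionProduct_isoClosure_right L.isoClosure R).le
      exact (monotone_extensionProduct_left _
          (extensionProduct_le_of_isTriangulatedClosed₂' le_rfl le_rfl)).trans
        (monotone_extensionProduct_right _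
          (extensionProduct_le_of_isTriangulatedClosed₂' le_rfl le_rfl))
    exact hle _ ⟨T.obj₁, T.obj₃, T.mor₁, T.mor₂, T.mor₃, hT, h₁, h₃⟩
  exact { }

theorem isRightAdjoint_ι_iff (P : ObjectProperty D) [P.IsTriangulated] :
    P.ι.IsRightAdjoint ↔ ∀ X : D, ∃ (A B : D) (f : A ⟶ X) (g : X ⟶ B) (h : B ⟶ A⟦(1 : ℤ)⟧),
      Triangle.mk f g h ∈ distTriang _ ∧ P B ∧ P.leftOrthogonal A := by
  constructor
  · intro hadj X
    obtain ⟨F, ⟨adj⟩⟩ := hadj.exists_leftAdjoint
    let B := P.ι.obj (F.obj X)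
    let g : X ⟶ B := adj.unit.app X
    have hbij : ∀ Y, P Y → Function.Bijective (fun v : B ⟶ Y => g ≫ v) := by
      intro Y hY
      constructor
      · intro v v' hvv
        have h1 : adj.homEquiv X ⟨Y, hY⟩ (ObjectProperty.homMk v) =
            adj.homEquiv X ⟨Y, hY⟩ (ObjectProperty.homMk v') := by
          rw [Adjunction.homEquiv_unit, Adjunction.homEquiv_unit]; exact hvv
        exact congrArg (fun z => z.hom) ((adj.homEquiv X ⟨Y, hY⟩).injective h1)
      · intro u
        refine ⟨((adj.homEquiv X ⟨Y, hY⟩).symm u).hom, ?_⟩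
        have := (adj.homEquiv X ⟨Y, hY⟩).apply_symm_apply u
        rwa [Adjunction.homEquiv_unit] at this
    obtain ⟨A, a, h, hT⟩ := distinguished_cocone_triangle₁ g
    refine ⟨A, B, a, g, h, hT, (F.obj X).property, fun Y f hY => ?_⟩
    have h0 : h ≫ f⟦(1 : ℤ)⟧' = 0 := by
      apply (hbij _ (P.le_shift 1 _ hY)).1
      dsimp only
      rw [← Category.assoc, show g ≫ h = 0 from comp_distTriang_mor_zero₂₃ _ hT, zero_comp,
        comp_zero]
    obtain ⟨w, hw⟩ := Triangle.yoneda_exact₂ _ (rot_of_distTriang _ (rot_of_distTriang _ hT))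
      (f⟦(1 : ℤ)⟧') h0
    obtain ⟨w', hw'⟩ : ∃ w' : X ⟶ Y, w = w'⟦(1 : ℤ)⟧' :=
      ⟨_, ((shiftFunctor D (1 : ℤ)).map_preimage w).symm⟩
    have hf : f = -(a ≫ w') := by
      apply (shiftFunctor D (1 : ℤ)).map_injective
      refine hw.trans ?_
      rw [hw']
      show (-a⟦(1 : ℤ)⟧') ≫ w'⟦(1 : ℤ)⟧' = _
      simp only [Functor.map_neg, Functor.map_comp, Preadditive.neg_comp]
    obtain ⟨v, hv⟩ := (hbij Y hY).2 w'
    rw [hf, ← hv]
    dsimp only
    rw [← Category.assoc, show a ≫ g = 0 from comp_distTriang_mor_zero₁₂ _ hT, zero_comp,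
      neg_zero]
  · intro hX
    choose A B f g h hT hB hA using hX
    have hbij : ∀ X Y, P Y → Function.Bijective (fun v : B X ⟶ Y => g X ≫ v) := by
      intro X Y hY
      constructor
      · intro v v' hvv
        dsimp only at hvv
        have key : g X ≫ (v - v') = 0 := by rw [Preadditive.comp_sub, hvv, sub_self]
        obtain ⟨u, hu⟩ := Triangle.yoneda_exact₃ _ (hT X) (v - v') key
        change v - v' = h X ≫ u at hu
        have : u = 0 := P.leftOrthogonal.le_shift 1 _ (hA X) u hY
        exact sub_eq_zero.1 (hu.trans ((congrArg (h X ≫ ·) this).trans comp_zero))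
      · intro u
        obtain ⟨v, hv⟩ := Triangle.yoneda_exact₂ _ (hT X) u (hA X _ hY)
        exact ⟨v, hv.symm⟩
    let e : ∀ (X : D) (Y : P.FullSubcategory),
        ((⟨B X, hB X⟩ : P.FullSubcategory) ⟶ Y) ≃ (X ⟶ P.ι.obj Y) := fun X Y =>
      P.fullyFaithfulι.homEquiv.trans (Equiv.ofBijective _ (hbij X Y.obj Y.property))
    exact (Adjunction.adjunctionOfEquivLeft e
      (fun X Y Y' w v => (Category.assoc _ _ _).symm)).isRightAdjoint

theorem isLeftAdjoint_ι_iff (P : ObjectProperty D) [P.IsTriangulated] :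
    P.ι.IsLeftAdjoint ↔ ∀ X : D, ∃ (A B : D) (f : A ⟶ X) (g : X ⟶ B) (h : B ⟶ A⟦(1 : ℤ)⟧),
      Triangle.mk f g h ∈ distTriang _ ∧ P A ∧ P.rightOrthogonal B := by
  constructor
  · intro hadj X
    obtain ⟨F, ⟨adj⟩⟩ := hadj.exists_rightAdjoint
    let A := P.ι.obj (F.obj X)
    let a : A ⟶ X := adj.counit.app X
    have hbij : ∀ Y, P Y → Function.Bijective (fun v : Y ⟶ A => v ≫ a) := by
      intro Y hY
      constructor
      · intro v v' hvv
        have h1 : (adj.homEquiv ⟨Y, hY⟩ X).symm (ObjectProperty.homMk v) =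
            (adj.homEquiv ⟨Y, hY⟩ X).symm (ObjectProperty.homMk v') := by
          rw [Adjunction.homEquiv_counit, Adjunction.homEquiv_counit]; exact hvv
        exact congrArg (fun z => z.hom) ((adj.homEquiv ⟨Y, hY⟩ X).symm.injective h1)
      · intro u
        refine ⟨((adj.homEquiv ⟨Y, hY⟩ X) u).hom, ?_⟩
        have := (adj.homEquiv ⟨Y, hY⟩ X).symm_apply_apply u
        rwa [Adjunction.homEquiv_counit] at this
    obtain ⟨B, g, h, hT⟩ := distinguished_cocone_triangle a
    refine ⟨A, B, a, g, h, hT, (F.obj X).property, fun Y f hY => ?_⟩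
    have h1 : f ≫ h = 0 := by
      have h2 : (f ≫ h) ≫ a⟦(1 : ℤ)⟧' = 0 := by
        rw [Category.assoc, show h ≫ a⟦(1 : ℤ)⟧' = 0 from comp_distTriang_mor_zero₃₁ _ hT,
          comp_zero]
      obtain ⟨Y', hY', ⟨e⟩⟩ : ∃ Y', P Y' ∧ Nonempty (Y ≅ Y'⟦(1 : ℤ)⟧) :=
        ⟨Y⟦(-1 : ℤ)⟧, P.le_shift (-1) _ hY,
          ⟨((shiftFunctorCompIsoId D (-1 : ℤ) 1 (by lia)).app Y).symm⟩⟩
      obtain ⟨u, hu⟩ : ∃ u : Y' ⟶ A, e.inv ≫ f ≫ h = u⟦(1 : ℤ)⟧' :=
        ⟨_, ((shiftFunctor D (1 : ℤ)).map_preimage _).symm⟩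
      have : u = 0 := by
        apply (hbij Y' hY').1
        apply (shiftFunctor D (1 : ℤ)).map_injective
        dsimp only
        rw [Functor.map_comp, ← hu, Category.assoc, h2, comp_zero, zero_comp, Functor.map_zero]
      rw [← cancel_epi e.inv, hu, this, Functor.map_zero, comp_zero]
    obtain ⟨w, hw⟩ := Triangle.coyoneda_exact₂ _ (rot_of_distTriang _ hT) f h1
    change Y ⟶ X at w
    change f = w ≫ g at hw
    obtain ⟨v, hv⟩ := (hbij Y hY).2 w
    rw [hw, ← hv]
    dsimp only
    rw [Category.assoc, show a ≫ g = 0 from comp_distTriang_mor_zero₁₂ _ hT, comp_zero]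
  · intro hX
    choose A B f g h hT hA hB using hX
    have hbij : ∀ X Y, P Y → Function.Bijective (fun v : Y ⟶ A X => v ≫ f X) := by
      intro X Y hY
      constructor
      · intro v v' hvv
        dsimp only at hvv
        have key : (v - v') ≫ f X = 0 := by rw [Preadditive.sub_comp, hvv, sub_self]
        obtain ⟨u, (hu : v - v' = u ≫ (Triangle.mk (f X) (g X) (h X)).invRotate.mor₁)⟩ :=
          Triangle.coyoneda_exact₂ _ (inv_rot_of_distTriang _ (hT X)) (v - v') key
        have : u = 0 := P.rightOrthogonal.le_shift (-1) _ (hB X) u hY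
        exact sub_eq_zero.1 (hu.trans ((congrArg (· ≫ _) this).trans zero_comp))
      · intro u
        obtain ⟨v, hv⟩ := Triangle.coyoneda_exact₂ _ (hT X) u (hB X _ hY)
        exact ⟨v, hv.symm⟩
    let e : ∀ (Y : P.FullSubcategory) (X : D),
        (P.ι.obj Y ⟶ X) ≃ (Y ⟶ (⟨A X, hA X⟩ : P.FullSubcategory)) := fun Y X =>
      (P.fullyFaithfulι.homEquiv.trans (Equiv.ofBijective _ (hbij X Y.obj Y.property))).symm
    exact (Adjunction.adjunctionOfEquivRight e
      (fun Y' Y X w v => (Equiv.symm_apply_eq _).2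
        ((congrArg (w.hom ≫ ·) ((e Y X).symm_apply_apply v).symm).trans
          (Category.assoc _ _ _).symm))).isLeftAdjoint

end Groth.Agent.TriOrth.Decomposition
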